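-- Team project OFM (S5978): leaf [PINV] of the [SYL4] cut (helper60).
import Cfsg.Agent.Lib.Helper60.OFM.Syl4Defs

set_option autoImplicit false

namespace Cfsg.Agent.Lib.Helper60.OFM

open Matrix Cfsg.Agent.Lib.Helper23.OHyp

universe u

theorem sum_mulVec_h60 {F : Type u} [Field F] {ι : Type} [Fintype ι] [DecidableEq ι]
    (s : Finset ℕ) (f : ℕ → Matrix ι ι F) (v : ι → F) :
    (∑ k ∈ s, f k) *ᵥ v = ∑ k ∈ s, (f k) *ᵥ v := by
  classical
  induction s using Finset.induction_on with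
  | empty => simp
  | insert a s ha ih => rw [Finset.sum_insert ha, Finset.sum_insert ha, Matrix.add_mulVec, ih]

/-- [PINV] -/
theorem pkgPInv_h60 : PkgPInv.{u} := by
  intro F _ ι _ _ r x hr hxr W hxW g hgW hcomm
  have hpow : ∀ k : ℕ, ∀ w ∈ W, (x ^ k) *ᵥ w ∈ W ∧
      g *ᵥ ((x ^ k) *ᵥ w) = (x ^ k) *ᵥ (g *ᵥ w) := by
    intro k
    induction k with
    | zero => intro w hw; simp [hw]
    | succ k ih =>
      intro w hw
      have h1 := ih (x *ᵥ w) (hxW w hw)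
      rw [pow_succ, ← Matrix.mulVec_mulVec]
      refine ⟨h1.1, ?_⟩
      rw [h1.2, hcomm w hw, Matrix.mulVec_mulVec]
  have hfix : ∀ v : ι → F, v ∈ fixSp x ↔ x *ᵥ v = v := by
    intro v
    show (Matrix.toLin' x - 1) v = 0 ↔ _
    rw [LinearMap.sub_apply, Matrix.toLin'_apply, Module.End.one_apply, sub_eq_zero]
  have hmovmem : ∀ v : ι → F, (x - 1) *ᵥ v ∈ movSp x := by
    intro v
    refine ⟨v, ?_⟩
    rw [LinearMap.sub_apply, Matrix.toLin'_apply, Module.End.one_apply, Matrix.sub_mulVec,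
      Matrix.one_mulVec]
  have hmem : ∀ u : ι → F, (∑ k ∈ Finset.range r, x ^ k) *ᵥ u = 0 → u ∈ movSp x := by
    intro u hu
    have h1 : ∀ k : ℕ, (x ^ k - 1) *ᵥ u ∈ movSp x := by
      intro k
      rw [← mul_geom_sum x k, ← Matrix.mulVec_mulVec]
      exact hmovmem _
    have h2 : (r : F) • u = - ∑ k ∈ Finset.range r, (x ^ k - 1) *ᵥ u := by
      have h3 : ∑ k ∈ Finset.range r, (x ^ k - 1) *ᵥ u =
          (∑ k ∈ Finset.range r, x ^ k) *ᵥ u - (r : F) • u := by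
        rw [sum_mulVec_h60]
        simp only [Matrix.sub_mulVec, Matrix.one_mulVec, Finset.sum_sub_distrib,
          Finset.sum_const, Finset.card_range, Nat.cast_smul_eq_nsmul]
      rw [h3, hu, zero_sub, neg_neg]
    have h4 : (r : F) • u ∈ movSp x := by
      rw [h2]; exact Submodule.neg_mem _ (Submodule.sum_mem _ fun k _ => h1 k)
    have h5 := Submodule.smul_mem (movSp x) ((r : F)⁻¹) h4
    rwa [smul_smul, inv_mul_cancel₀ hr, one_smul] at h5
  constructor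
  · rintro w ⟨hwW, hwf⟩
    refine ⟨hgW w hwW, ?_⟩
    rw [SetLike.mem_coe, hfix] at *
    rw [← hcomm w hwW, hwf]
  · rintro w ⟨hwW, hwm⟩
    refine ⟨hgW w hwW, ?_⟩
    apply hmem
    have hS0 : (∑ k ∈ Finset.range r, x ^ k) *ᵥ w = 0 := by
      obtain ⟨v, rfl⟩ := hwm
      rw [LinearMap.sub_apply, Matrix.toLin'_apply, Module.End.one_apply]
      have h6 : x *ᵥ v - v = (x - 1) *ᵥ v := by rw [Matrix.sub_mulVec, Matrix.one_mulVec]
      rw [h6, Matrix.mulVec_mulVec, geom_sum_mul, hxr, sub_self, Matrix.zero_mulVec]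
    rw [sum_mulVec_h60] at hS0 ⊢
    have h7 : ∑ k ∈ Finset.range r, (x ^ k) *ᵥ (g *ᵥ w) =
        g *ᵥ (∑ k ∈ Finset.range r, (x ^ k) *ᵥ w) := by
      rw [Matrix.mulVec_sum]
      exact Finset.sum_congr rfl fun k _ => ((hpow k w hwW).2).symm
    rw [h7, hS0, Matrix.mulVec_zero]

end Cfsg.Agent.Lib.Helper60.OFM
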